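import Cfsg.Agent.Lib.ChevField.Fixed
import Cfsg.Agent.Lib.Chev.RootOrbit

/-!
The elements `x_r(1)` have trivial common centraliser in a Chevalley group, so the normaliser of the group
over a finite field consists of the fixed points of the Frobenius map.
-/

set_option autoImplicit false

namespace Cfsg.Agent.Lib.ChevField

open Cfsg.Lie Cfsg.Agent.Lib.Chev
open scoped Matrix

variable {D : ChevalleyDatum} {C : Cert} {F : Type*} [Field F] (hh : Rooted D C)

/-- Commutes with every `x_r(1)`. -/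
def CommOnes (hh : Rooted D C) (g : GL D.Idx F) : Prop :=
  ∀ (r : ℕ) (hr : r < D.nroots), Commute g (xGL hh.toChecked F hr 1)

include hh

theorem perm_pos_of_simple {L : List ℕ} (hL : IsWord D L)
    (hs : ∀ i < D.rank, D.nroots / 2 ≤ perm C L (D.simple i)) :
    ∀ r, D.nroots / 2 ≤ r → r < D.nroots → D.nroots / 2 ≤ perm C L r := by
  intro r hp hr
  have h := hh.toChecked
  by_contra hn
  have h1 := h.ht_neg_of_neg (r := perm C L r) (by omega)
  have h2 : 0 ≤ ht D C (perm C L r) := by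
    refine Finset.sum_nonneg fun j hj => ?_
    rw [h.coef_perm (Finset.mem_range.1 hj) hL hr]
    refine Finset.sum_nonneg fun l hl => mul_nonneg (h.coef_nonneg (Finset.mem_range.1 hl) hr hp) ?_
    exact h.coef_nonneg (Finset.mem_range.1 hj) (h.perm_lt hL (h.simple_lt (Finset.mem_range.1 hl)))
      (hs l (Finset.mem_range.1 hl))
  omega

theorem xGL_inv {r : ℕ} (hr : r < D.nroots) (t : F) :
    (xGL hh.toChecked F hr t)⁻¹ = xGL hh.toChecked F hr (-t) := Units.ext rfl

theorem xGL_ne_one {r : ℕ} (hr : r < D.nroots) : xGL hh.toChecked F hr (1 : F) ≠ 1 := fun e =>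
  one_ne_zero ((hh.toChecked.x_eq_one_iff hr (1 : F)).1 (congrArg Units.val e))

theorem simple_not_mem_sdiff {i : ℕ} (hi : i < D.rank) :
    xGL hh.toChecked F (hh.toChecked.simple_lt hi) (1 : F) ∉ rootGen D F (posSet D \ {D.simple i}) := by
  intro hx
  have h := hh.toChecked
  have hp := h.simple_lt hi
  have hpp : D.nroots / 2 ≤ D.simple i := (h.simple_spec hi).2
  have h1 := hh.simple_sdiff_le (hh.nS_conj_simple_sdiff hi hx)
  rw [h.nS_conj_x hi hp, mul_inv_cancel_right] at h1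
  have hneg : refl C i (D.simple i) < D.nroots / 2 := by
    rw [h.simple_refl hi]; have := h.two_mul_half; unfold ng; omega
  have h2 : xGL h F (h.refl_lt hi hp) ((eta C i (D.simple i) : F) * 1) = 1 :=
    Subgroup.mem_bot.1 (hh.borel_inf_negUnipotent.le (Subgroup.mem_inf.2 ⟨h1, h.xGL_mem_neg _ hneg _⟩))
  have h3 := (h.x_eq_one_iff (h.refl_lt hi hp) _).1 (congrArg Units.val h2)
  rcases eta_cases (C := C) i (D.simple i) with w | w <;> simp [w] at h3

theorem mem_borel_of_commOnes {g : GL D.Idx F} (hg : g ∈ D.group F) (hc : CommOnes hh g) :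
    g ∈ D.borelSubgroup F := by
  have h := hh.toChecked
  obtain ⟨L, hL, b, hb, u, hu, rfl⟩ := hh.exists_canonical hg
  set n := nProd hh.toChecked F L with hn
  by_cases hpos : ∀ i < D.rank, D.nroots / 2 ≤ perm C L (D.simple i)
  · have hnd := hh.nProd_mem_diag_of_pos (F := F) hL (perm_pos_of_simple hh hL hpos)
    refine mul_mem (mul_mem hb (Subgroup.mem_sup_right hnd)) (Subgroup.mem_sup_left ?_)
    rw [h.posUnipotent_eq]
    exact rootGen_mono (h.invSet_subset L) hu
  exfalso
  push Not at hpos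
  obtain ⟨i, hi, hneg⟩ := hpos
  have hp := h.simple_lt hi
  have hpp : D.nroots / 2 ≤ D.simple i := (h.simple_spec hi).2
  have hiI : D.simple i ∈ invSet D C L := ⟨⟨hpp, hp⟩, hneg⟩
  set x := xGL hh.toChecked F hp (1 : F) with hx
  have huU : u ∈ D.posUnipotent F := by
    rw [h.posUnipotent_eq]; exact rootGen_mono (h.invSet_subset L) hu
  obtain ⟨a, ha, c, hcI, e⟩ := h.exists_split (invSet D C L) (mul_mem huU (h.xGL_mem_pos hp hpp (1 : F)))
  have e1 : (b * (n * a * n⁻¹)) * n * c = (x * b) * n * u := by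
    calc (b * (n * a * n⁻¹)) * n * c = b * n * (a * c) := by group
      _ = b * n * (u * x) := by rw [← e]
      _ = (b * n * u) * x := by group
      _ = x * (b * n * u) := (hc _ hp).eq
      _ = (x * b) * n * u := by group
  obtain ⟨-, e2⟩ := hh.canonical_unique hL
    (mul_mem hb (Subgroup.mem_sup_left (h.conj_posSet_sdiff_le hL ha)))
    (mul_mem (Subgroup.mem_sup_left (h.xGL_mem_pos hp hpp (1 : F))) hb)
    (rootGen_mono Set.inter_subset_right hcI) hu e1
  subst e2
  obtain ⟨v, hv, w, hw, ew⟩ := h.exists_split {D.simple i} huU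
  obtain ⟨s, rfl⟩ : ∃ s, w = xGL hh.toChecked F hp s := by
    refine (h.rootSubgroup_mem_iff hp).1 ((Subgroup.closure_le _).2 ?_ hw)
    rintro y ⟨r, t, hr, ey⟩
    obtain ⟨-, rfl⟩ : r ∈ posSet D ∧ r = D.simple i := hr
    exact Subgroup.subset_closure ⟨t, ey⟩
  have hcomm : xGL hh.toChecked F hp s * x = x * xGL hh.toChecked F hp s :=
    Units.ext (by simp only [hx, Units.val_mul, coe_xGL, h.x_add hp, add_comm s 1])
  refine simple_not_mem_sdiff hh hi (F := F) ?_
  have ha' : v * x * v⁻¹ ∈ rootGen D F (posSet D \ {D.simple i}) := by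
    have : v * x * v⁻¹ = a := by
      have h' : a = v * (xGL hh.toChecked F hp s * x) * (xGL hh.toChecked F hp s)⁻¹ * v⁻¹ := by
        rw [eq_mul_inv_iff_mul_eq, eq_mul_inv_iff_mul_eq, mul_assoc, ← ew, ← e, ew]
        simp only [hx, mul_assoc]
      rw [h', hcomm]; group
    rw [this]
    exact rootGen_mono (S := posSet D \ invSet D C L) (T := posSet D \ {D.simple i}) (fun r hr => ⟨hr.1, fun e' => hr.2 (by
      rw [Set.mem_singleton_iff] at e'; exact e' ▸ hiI)⟩) ha
  have := mul_mem (mul_mem (inv_mem hv) ha') hv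
  simpa [mul_assoc] using this

theorem eq_one_of_commOnes {g : GL D.Idx F} (hg : g ∈ D.group F) (hc : CommOnes hh g) : g = 1 := by
  have h := hh.toChecked
  obtain ⟨L, hL, hpn, -⟩ := hh.exists_longest
  set n := nProd hh.toChecked F L with hn
  have hnG : n ∈ D.group F := hh.monomial_le_group (hh.nProd_mem_monomial hL)
  have hc' : CommOnes hh (n⁻¹ * g * n) := by
    intro r hr
    have hcx : Commute g (xGL h F (h.perm_lt hL hr) ((weta C L r : F) * 1)) := by
      rcases weta_cases (C := C) L r with w | w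
      · simpa [w] using hc _ (h.perm_lt hL hr)
      · have h1 := (hc _ (h.perm_lt hL hr)).inv_right
        rw [xGL_inv hh] at h1
        simpa [w] using h1
    have e : xGL h F hr (1 : F) = n⁻¹ * xGL h F (h.perm_lt hL hr) ((weta C L r : F) * 1) * n := by
      rw [mul_assoc, eq_inv_mul_iff_mul_eq]
      exact Units.ext (by rw [Units.val_mul, Units.val_mul, coe_xGL, coe_xGL, hn, h.nProd_mul_x hL hr])
    rw [e]
    show _ * _ = _ * _
    calc n⁻¹ * g * n * (n⁻¹ * xGL h F (h.perm_lt hL hr) ((weta C L r : F) * 1) * n)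
        = n⁻¹ * (g * xGL h F (h.perm_lt hL hr) ((weta C L r : F) * 1)) * n := by group
      _ = n⁻¹ * (xGL h F (h.perm_lt hL hr) ((weta C L r : F) * 1) * g) * n := by rw [hcx.eq]
      _ = _ := by group
  obtain ⟨u, hu, t, ht, e⟩ := hh.mem_borel_iff.1
    (mem_borel_of_commOnes hh (mul_mem (mul_mem (inv_mem hnG) hg) hnG) hc')
  have hnu : n * u * n⁻¹ ∈ D.negUnipotent F := by
    rw [h.posUnipotent_eq] at hu
    exact h.conj_rootGen_le hL (fun r hr => hr.2) (fun r _ hrS _ => h.xGL_mem_neg _ (hpn r hrS.1 hrS.2) _) hu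
  obtain ⟨t', ht', et⟩ := hh.nProd_conj_diag (F := F) hL ht
  have eg : g = n * u * n⁻¹ * t' := by
    have h1 : g = n * (n⁻¹ * g * n) * n⁻¹ := by group
    rw [e] at h1
    rw [h1, show t' = n * t * n⁻¹ from eq_mul_inv_iff_mul_eq.2 et.symm]
    group
  have hgd : g ∈ D.diagonalSubgroup F := by
    refine hh.borel_inf_negBorel.le (Subgroup.mem_inf.2 ⟨mem_borel_of_commOnes hh hg hc, ?_⟩)
    rw [eg]
    exact mul_mem (Subgroup.mem_sup_left hnu) (Subgroup.mem_sup_right ht')
  rw [hh.diagonalSubgroup_eq] at hgd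
  obtain ⟨c, rfl⟩ := hgd
  have h1 : ∀ r < D.nroots, torusFun D c r = 1 := by
    intro r hr
    have e1 := h.conj_x (c := c) hr (1 : F)
    rw [(hc r hr).eq, mul_inv_cancel_right, mul_one] at e1
    exact Units.ext (h.x_injective hr (congrArg Units.val e1).symm)
  refine Units.ext ?_
  rw [coe_torusHom, Units.val_one, ← Matrix.diagonal_one]
  unfold ChevalleyDatum.charDiag
  congr 1
  funext x
  rcases x with i | s <;> simp [h1]

section Frobenius

variable (σ : F →+* F)

/-- The group generated by the root elements over the fixed field. -/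
def fixedRootGroup (D : ChevalleyDatum) (σ : F →+* F) : Subgroup (GL D.Idx F) :=
  Subgroup.closure {g : GL D.Idx F | ∃ (s : ℕ) (t : F), σ t = t ∧ (g : Matrix D.Idx D.Idx F) = D.x F s t}

theorem fixed_decompose {g : GL D.Idx F} (hg : g ∈ D.group F) (he : glMap D σ g = g) :
    ∃ l ∈ fixedRootGroup D σ, ∃ t ∈ D.diagonalSubgroup F,
      (∀ y ∈ fixedRootGroup D σ, t * y * t⁻¹ ∈ fixedRootGroup D σ) ∧ g = l * t := by
  have h := hh.toChecked
  let K0 := σ.eqLocusField (RingHom.id F)
  let f : ↥K0 →+* F := K0.subtype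
  have hfix : ∀ x, σ x = x → ∃ y, f y = x := fun x hx => ⟨⟨x, hx⟩, rfl⟩
  have himg : ∀ v ∈ D.group ↥K0, glMap D f v ∈ fixedRootGroup D σ := by
    intro v hv
    suffices hle : (D.group ↥K0).map (glMap D f) ≤ fixedRootGroup D σ from hle (Subgroup.mem_map_of_mem _ hv)
    unfold ChevalleyDatum.group
    rw [MonoidHom.map_closure, Subgroup.closure_le]
    rintro _ ⟨y, ⟨r, t, hy⟩, rfl⟩
    refine Subgroup.subset_closure ⟨r, f t, t.2, ?_⟩
    have := Twisted.x_map D f r.1 t
    simp only [ChevalleyDatum.x, dif_pos r.2, Fin.eta] at this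
    rw [coe_glMap, hy, ChevalleyDatum.x, dif_pos r.2]
    exact this
  obtain ⟨L, hL, b, hb, u, hu, rfl⟩ := hh.exists_canonical hg
  rw [map_mul, map_mul, glMap_nProd] at he
  obtain ⟨eb, eu⟩ := hh.canonical_unique hL (glMap_borel hh σ hb) hb (glMap_rootGen σ hu) hu he
  obtain ⟨u₁, hu₁, t, ht, rfl⟩ := hh.mem_borel_iff.1 hb
  rw [map_mul] at eb
  have e1 : u₁⁻¹ * glMap D σ u₁ = t * (glMap D σ t)⁻¹ := by
    rw [eq_mul_inv_iff_mul_eq, mul_assoc, eb, inv_mul_cancel_left]
  have e2 : u₁⁻¹ * glMap D σ u₁ = 1 := by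
    refine Subgroup.mem_bot.1 (hh.posUnipotent_inf_diagonal.le (Subgroup.mem_inf.2
      ⟨mul_mem (inv_mem hu₁) (glMap_posUnipotent hh σ hu₁), ?_⟩))
    rw [e1]
    exact mul_mem ht (inv_mem (glMap_diagonal hh σ ht))
  have fu₁ : glMap D σ u₁ = u₁ := (inv_mul_eq_one.1 e2).symm
  have ft : glMap D σ t = t := by
    rw [fu₁] at eb
    exact mul_left_cancel eb
  obtain ⟨a, ha, rfl⟩ := exists_pos_of_fixed hh f σ hfix hu₁ fu₁
  obtain ⟨c, hc, rfl⟩ := exists_pos_of_fixed hh f σ hfix
    (by rw [h.posUnipotent_eq]; exact rootGen_mono (h.invSet_subset L) hu) eu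
  have hnorm : ∀ y ∈ fixedRootGroup D σ, t * y * t⁻¹ ∈ fixedRootGroup D σ := by
    have ht' := ht
    rw [hh.diagonalSubgroup_eq] at ht'
    obtain ⟨cc, rfl⟩ := ht'
    intro y hy
    induction hy using Subgroup.closure_induction with
    | mem y hy =>
      obtain ⟨s, t0, ht0, ey⟩ := hy
      by_cases hs : s < D.nroots
      · obtain rfl : y = xGL h F hs t0 := Units.ext ey
        rw [h.conj_x hs]
        refine Subgroup.subset_closure ⟨s, _, ?_, coe_xGL h hs _⟩
        rw [map_mul, ht0]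
        congr 1
        have e := congrArg (fun z : GL D.Idx F => (z : Matrix D.Idx D.Idx F) (Sum.inr ⟨s, hs⟩) (Sum.inr ⟨s, hs⟩)) ft
        simpa [coe_glMap, coe_torusHom, ChevalleyDatum.charDiag] using e
      · obtain rfl : y = 1 := Units.ext (by rw [ey, ChevalleyDatum.x, dif_neg hs]; rfl)
        simp
    | one => simp
    | mul p q _ _ hp hq => have := mul_mem hp hq; simpa [mul_assoc] using this
    | inv p _ hp => have := inv_mem hp; simpa [mul_assoc] using this
  have hrest : nProd hh.toChecked F L * glMap D f c ∈ fixedRootGroup D σ := by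
    have hm := himg _ (mul_mem (hh.monomial_le_group (hh.nProd_mem_monomial (F := ↥K0) hL))
      (h.posUnipotent_le_group hc))
    rwa [map_mul, glMap_nProd] at hm
  refine ⟨glMap D f a * (t * (nProd hh.toChecked F L * glMap D f c) * t⁻¹),
    mul_mem (himg _ (h.posUnipotent_le_group ha)) (hnorm _ hrest), t, ht, hnorm, ?_⟩
  group

theorem commutator_mem_fixedRootGroup {g g' : GL D.Idx F} (hg : g ∈ D.group F) (he : glMap D σ g = g)
    (hg' : g' ∈ D.group F) (he' : glMap D σ g' = g') : g * g' * g⁻¹ * g'⁻¹ ∈ fixedRootGroup D σ := by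
  obtain ⟨l, hl, t, ht, hn, rfl⟩ := fixed_decompose hh σ hg he
  obtain ⟨l', hl', t', ht', hn', rfl⟩ := fixed_decompose hh σ hg' he'
  have hcom := hh.diagonal_commute (inv_mem ht) ht'
  have e : (l * t) * (l' * t') * (l * t)⁻¹ * (l' * t')⁻¹ =
      l * (t * l' * t⁻¹) * (t' * l⁻¹ * t'⁻¹) * l'⁻¹ := by
    calc (l * t) * (l' * t') * (l * t)⁻¹ * (l' * t')⁻¹
        = l * (t * l') * (t' * t⁻¹) * l⁻¹ * t'⁻¹ * l'⁻¹ := by group
      _ = l * (t * l') * (t⁻¹ * t') * l⁻¹ * t'⁻¹ * l'⁻¹ := by rw [hcom]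
      _ = _ := by group
  rw [e]
  exact mul_mem (mul_mem (mul_mem hl (hn _ hl')) (hn' _ (inv_mem hl))) (inv_mem hl')

/-- Centraliser and normaliser of a group between `G(q)` and the fixed points. -/
theorem centralizer_and_normalizer (K : Subgroup (GL D.Idx F)) (hKG : K ≤ D.group F)
    (hLK : fixedRootGroup D σ ≤ K) (hKfix : ∀ g ∈ K, glMap D σ g = g) :
    D.group F ⊓ Subgroup.centralizer (K : Set (GL D.Idx F)) = ⊥ ∧
      ∀ g ∈ D.group F, (g ∈ Subgroup.normalizer (K : Set (GL D.Idx F)) ↔ glMap D σ g = g) := by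
  have hcent : ∀ g ∈ D.group F, g ∈ Subgroup.centralizer (K : Set (GL D.Idx F)) → g = 1 := by
    intro g hg hc
    refine eq_one_of_commOnes hh hg fun r hr => ?_
    exact (Subgroup.mem_centralizer_iff.1 hc _ (hLK (Subgroup.subset_closure ⟨r, 1, map_one σ, coe_xGL _ hr _⟩))).symm
  refine ⟨eq_bot_iff.2 fun g hg => Subgroup.mem_bot.2 (hcent g hg.1 hg.2), fun g hg => ⟨fun hn => ?_, fun he => ?_⟩⟩
  · have hG' : glMap D σ g ∈ D.group F := glMap_group_le σ (Subgroup.mem_map_of_mem _ hg)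
    have h1 : g⁻¹ * glMap D σ g = 1 := by
      refine hcent _ (mul_mem (inv_mem hg) hG') (Subgroup.mem_centralizer_iff.2 fun y hy => ?_)
      have h2 := hKfix _ ((Subgroup.mem_normalizer_iff.1 hn y).1 hy)
      rw [map_mul, map_mul, map_inv, hKfix y hy] at h2
      calc y * (g⁻¹ * glMap D σ g) = g⁻¹ * (g * y * g⁻¹) * glMap D σ g := by group
        _ = g⁻¹ * (glMap D σ g * y * (glMap D σ g)⁻¹) * glMap D σ g := by rw [h2]
        _ = g⁻¹ * glMap D σ g * y := by group
    exact (inv_mul_eq_one.1 h1).symm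
  · have key : ∀ g' ∈ D.group F, glMap D σ g' = g' → ∀ y ∈ K, g' * y * g'⁻¹ ∈ K := by
      intro g' hg' he' y hy
      have := mul_mem (hLK (commutator_mem_fixedRootGroup hh σ hg' he' (hKG hy) (hKfix y hy))) hy
      simpa [mul_assoc] using this
    refine Subgroup.mem_normalizer_iff.2 fun y => ⟨key g hg he y, fun hy => ?_⟩
    have := key g⁻¹ (inv_mem hg) (by rw [map_inv, he]) _ hy
    simpa [mul_assoc] using this

end Frobenius

end Cfsg.Agent.Lib.ChevField
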